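import Groth.Agent.S1549
import Groth.Agent.SmoothSliceLib.SepPoint
import Groth.Agent.ASp.PropDescend
import Groth.Agent.GrpSchLib.Component
import Mathlib.AlgebraicGeometry.Morphisms.Separated
import Mathlib.CategoryTheory.Monoidal.Cartesian.Over
import Mathlib.FieldTheory.IsAlgClosed.Basic

/-! Points with values in a separably or algebraically closed field are schematically dense. -/

set_option autoImplicit false
set_option backward.isDefEq.respectTransparency false
universe u
open CategoryTheory MonoidalCategory CartesianMonoidalCategory MonObj AlgebraicGeometry Limits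

namespace Groth.Agent.SepPtsLib

variable (k K : Type u) [Field k] [Field K] [Algebra k K]

local notation "Sk" => Spec (CommRingCat.of k)
local notation "PK" => Over.mk (Spec.map (CommRingCat.ofHom (algebraMap k K)))

variable {k K}

/-- The `K`-point given by a point in a field that embeds into `K`. -/
noncomputable def ptOf {X : Over Sk} {L : Type u} [Field L] [Algebra k L] (σ : Spec (CommRingCat.of L) ⟶ X.left)
    (hσ : σ ≫ X.hom = Spec.map (CommRingCat.ofHom (algebraMap k L))) (e : L →ₐ[k] K) : PK ⟶ X :=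
  Over.homMk (Spec.map (CommRingCat.ofHom e.toRingHom) ≫ σ) (by
    show (Spec.map (CommRingCat.ofHom e.toRingHom) ≫ σ) ≫ X.hom = Spec.map (CommRingCat.ofHom (algebraMap k K))
    rw [Category.assoc, hσ, ← Spec.map_comp]
    congr 1
    exact CommRingCat.hom_ext e.comp_algebraMap)

theorem surjective_of_pts {X Z : Over Sk} (c : Z ⟶ X) [IsClosedImmersion c.left]
    (hd : ∀ W : X.left.Opens, (W : Set X.left).Nonempty → ∃ (L : Type u) (_ : Field L) (_ : Algebra k L)
      (σ : Spec (CommRingCat.of L) ⟶ X.left), σ ≫ X.hom = Spec.map (CommRingCat.ofHom (algebraMap k L)) ∧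
      Nonempty (L →ₐ[k] K) ∧ ∀ o, σ o ∈ W)
    (hc : ∀ x : PK ⟶ X, ∃ z : PK ⟶ Z, z ≫ c = x) : Surjective c.left := by
  refine ⟨fun x => ?_⟩
  by_contra hx
  let W : X.left.Opens := ⟨(Set.range c.left)ᶜ, c.left.isClosedEmbedding.isClosed_range.isOpen_compl⟩
  obtain ⟨L, _, _, σ, hσ, ⟨e⟩, hσW⟩ := hd W ⟨x, fun ⟨z, hz⟩ => hx ⟨z, hz⟩⟩
  obtain ⟨z, hz⟩ := hc (ptOf σ hσ e)
  have h := congrArg (fun m => m.left (IsLocalRing.closedPoint K)) hz
  exact hσW _ ⟨_, h⟩

theorem isIso_of_surjective {X Z : Over Sk} (c : Z ⟶ X) [IsClosedImmersion c.left] [AlgebraicGeometry.IsReduced X.left]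
    [Surjective c.left] : IsIso c := by
  haveI := isIso_of_isClosedImmersion_of_surjective c.left
  haveI : IsIso ((Over.forget _).map c) := inferInstanceAs (IsIso c.left)
  exact isIso_of_reflects_iso c (Over.forget _)

/-- A closed subscheme of a geometrically reduced scheme containing all points in a separably closed field is everything. -/
theorem isIso_of_geometricallyReduced [IsSepClosed K] {X Z : Over Sk} [LocallyOfFiniteType X.hom]
    [GeometricallyReduced X.hom] (c : Z ⟶ X) [IsClosedImmersion c.left]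
    (hc : ∀ x : PK ⟶ X, ∃ z : PK ⟶ Z, z ≫ c = x) : IsIso c := by
  haveI : IsLocallyNoetherian X.left := LocallyOfFiniteType.isLocallyNoetherian X.hom
  haveI : Flat X.hom := inferInstance
  haveI : AlgebraicGeometry.IsReduced X.left := GeometricallyReduced.isReduced_of_flat_of_isLocallyNoetherian X.hom
  letI : X.left.Over Sk := ⟨X.hom⟩
  haveI : LocallyOfFiniteType (X.left ↘ Sk) := ‹LocallyOfFiniteType X.hom›
  obtain ⟨U, hUd, hUs⟩ := (Groth.Agent.S1549.result k X.left).1 ‹GeometricallyReduced X.hom›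
  haveI : Smooth (U.ι ≫ X.hom) := hUs
  haveI := surjective_of_pts c (fun W hW => by
    obtain ⟨x, hxW, hxU⟩ := hUd.inter_open_nonempty _ W.2 hW
    obtain ⟨L, _, _, σ, hfin, hsep, hσ, hσW⟩ := Groth.Agent.SmoothSliceLib.exists_spec_point_field k (U.ι ≫ X.hom)
      (U.ι ⁻¹ᵁ W) ⟨x, hxU⟩ hxW
    haveI := hsep
    exact ⟨L, inferInstance, inferInstance, σ ≫ U.ι, by rw [Category.assoc, hσ], ⟨IsSepClosed.lift⟩, fun o => hσW o⟩) hc
  exact isIso_of_surjective c

/-- A closed subscheme of a reduced scheme containing all points in an algebraically closed field is everything. -/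
theorem isIso_of_isAlgClosed [IsAlgClosed K] {X Z : Over Sk} [LocallyOfFiniteType X.hom]
    [AlgebraicGeometry.IsReduced X.left] (c : Z ⟶ X) [IsClosedImmersion c.left]
    (hc : ∀ x : PK ⟶ X, ∃ z : PK ⟶ Z, z ≫ c = x) : IsIso c := by
  haveI : JacobsonSpace X.left := LocallyOfFiniteType.jacobsonSpace X.hom
  haveI := surjective_of_pts c (fun W hW => by
    obtain ⟨x, hxW, hx⟩ := nonempty_inter_closedPoints hW W.2.isLocallyClosed
    let σ := X.left.fromSpecResidueField x
    let φ : CommRingCat.of k ⟶ X.left.residueField x := Spec.preimage (σ ≫ X.hom)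
    letI : Algebra k (X.left.residueField x) := φ.hom.toAlgebra
    haveI : IsClosedImmersion σ := isClosed_singleton_iff_isClosedImmersion.mp hx
    haveI : IsFinite (σ ≫ X.hom) := isFinite_iff_locallyOfFiniteType_of_jacobsonSpace.mpr inferInstance
    haveI : Module.Finite k (X.left.residueField x) := by
      have h : IsFinite (Spec.map φ) := by rw [Spec.map_preimage]; infer_instance
      exact (IsFinite.SpecMap_iff φ).mp h
    refine ⟨X.left.residueField x, inferInstance, inferInstance, σ, ?_, ⟨IsAlgClosed.lift⟩, fun o => ?_⟩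
    · exact (Spec.map_preimage (σ ≫ X.hom)).symm
    · exact (Scheme.fromSpecResidueField_apply x o).symm ▸ hxW) hc
  exact isIso_of_surjective c

theorem geometricallyReduced_of_smooth {X : Scheme.{u}} (f : X ⟶ Sk) [Smooth f] : GeometricallyReduced f := by
  haveI : AlgebraicGeometry.IsReduced X := Groth.Agent.ASp.isReduced_of_smooth f
  letI : X.Over Sk := ⟨f⟩
  haveI : Smooth (X ↘ Sk) := ‹Smooth f›
  haveI : LocallyOfFiniteType (X ↘ Sk) := inferInstance
  exact (Groth.Agent.S1549.result k X).2 ⟨⊤, by rw [TopologicalSpace.Opens.coe_top]; exact dense_univ, inferInstance⟩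

theorem isIso_of_smooth [IsSepClosed K] {X Z : Over Sk} [Smooth X.hom] (c : Z ⟶ X) [IsClosedImmersion c.left]
    (hc : ∀ x : PK ⟶ X, ∃ z : PK ⟶ Z, z ≫ c = x) : IsIso c := by
  haveI := geometricallyReduced_of_smooth X.hom
  exact isIso_of_geometricallyReduced c hc

/-- Factoring through a closed immersion is tested on points. -/
theorem exists_lift_of_pts [IsSepClosed K] {X Y Z : Over Sk} [LocallyOfFiniteType X.hom] [GeometricallyReduced X.hom]
    (f : X ⟶ Y) (c : Z ⟶ Y) [IsClosedImmersion c.left]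
    (h : ∀ x : PK ⟶ X, ∃ z : PK ⟶ Z, z ≫ c = x ≫ f) : ∃ l : X ⟶ Z, l ≫ c = f := by
  let P : Over Sk := Over.mk (pullback.fst f.left c.left ≫ X.hom)
  let p : P ⟶ X := Over.homMk (pullback.fst f.left c.left) rfl
  let q : P ⟶ Z := Over.homMk (pullback.snd f.left c.left) (by
    show pullback.snd _ _ ≫ Z.hom = pullback.fst _ _ ≫ X.hom
    rw [← Over.w f, ← Over.w c, pullback.condition_assoc])
  haveI : IsClosedImmersion p.left := inferInstanceAs (IsClosedImmersion (pullback.fst f.left c.left))
  have hpq : p ≫ f = q ≫ c := by ext; exact pullback.condition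
  haveI : IsIso p := isIso_of_geometricallyReduced (K := K) p fun x => by
    obtain ⟨z, hz⟩ := h x
    refine ⟨Over.homMk (pullback.lift x.left z.left (congrArg CommaMorphism.left hz).symm) ?_, ?_⟩
    · show pullback.lift _ _ _ ≫ pullback.fst _ _ ≫ X.hom = _
      rw [pullback.lift_fst_assoc, Over.w x]
    · ext; exact pullback.lift_fst _ _ _
  exact ⟨inv p ≫ q, by rw [Category.assoc, ← hpq, IsIso.inv_hom_id_assoc]⟩

/-- Maps to a group scheme are determined by points. -/
theorem eq_of_pts [IsSepClosed K] {X G : Over Sk} [LocallyOfFiniteType X.hom] [GeometricallyReduced X.hom] [GrpObj G]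
    (f g : X ⟶ G) (h : ∀ x : PK ⟶ X, x ≫ f = x ≫ g) : f = g := by
  haveI := Groth.Agent.GrpSchLib.isClosedImmersion_unit (G := G)
  obtain ⟨l, hl⟩ := exists_lift_of_pts (K := K) (f * g⁻¹) η[G] fun x => ⟨toUnit _, by
    rw [MonObj.comp_mul, GrpObj.comp_inv, h, mul_inv_cancel, Hom.one_def]⟩
  have h1 : f * g⁻¹ = 1 := by rw [← hl, toUnit_unique l (toUnit X), Hom.one_def]
  exact mul_inv_eq_one.mp h1

end Groth.Agent.SepPtsLib

namespace Groth.Agent.SepPtsLib

variable {k K : Type u} [Field k] [Field K] [Algebra k K]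

local notation "Sk" => Spec (CommRingCat.of k)
local notation "PK" => Over.mk (Spec.map (CommRingCat.ofHom (algebraMap k K)))

theorem exists_lift_of_algClosed_pts [IsAlgClosed K] {X Y Z : Over Sk} [LocallyOfFiniteType X.hom]
    [AlgebraicGeometry.IsReduced X.left] (f : X ⟶ Y) (c : Z ⟶ Y) [IsClosedImmersion c.left]
    (h : ∀ x : PK ⟶ X, ∃ z : PK ⟶ Z, z ≫ c = x ≫ f) : ∃ l : X ⟶ Z, l ≫ c = f := by
  let P : Over Sk := Over.mk (pullback.fst f.left c.left ≫ X.hom)
  let p : P ⟶ X := Over.homMk (pullback.fst f.left c.left) rfl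
  let q : P ⟶ Z := Over.homMk (pullback.snd f.left c.left) (by
    show pullback.snd _ _ ≫ Z.hom = pullback.fst _ _ ≫ X.hom
    rw [← Over.w f, ← Over.w c, pullback.condition_assoc])
  haveI : IsClosedImmersion p.left := inferInstanceAs (IsClosedImmersion (pullback.fst f.left c.left))
  have hpq : p ≫ f = q ≫ c := by ext; exact pullback.condition
  haveI : IsIso p := isIso_of_isAlgClosed (K := K) p fun x => by
    obtain ⟨z, hz⟩ := h x
    refine ⟨Over.homMk (pullback.lift x.left z.left (congrArg CommaMorphism.left hz).symm) ?_, ?_⟩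
    · show pullback.lift _ _ _ ≫ pullback.fst _ _ ≫ X.hom = _
      rw [pullback.lift_fst_assoc, Over.w x]
    · ext; exact pullback.lift_fst _ _ _
  exact ⟨inv p ≫ q, by rw [Category.assoc, ← hpq, IsIso.inv_hom_id_assoc]⟩

theorem iso_of_same_pts [IsSepClosed K] {X Z Z' : Over Sk} [LocallyOfFiniteType X.hom] (c : Z ⟶ X)
    [IsClosedImmersion c.left] [GeometricallyReduced Z.hom] (c' : Z' ⟶ X) [IsClosedImmersion c'.left]
    [GeometricallyReduced Z'.hom]
    (h : ∀ x : PK ⟶ X, (∃ z : PK ⟶ Z, z ≫ c = x) ↔ ∃ z : PK ⟶ Z', z ≫ c' = x) :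
    ∃ e : Z ≅ Z', e.hom ≫ c' = c := by
  haveI : LocallyOfFiniteType Z.hom := by rw [← Over.w c]; infer_instance
  haveI : LocallyOfFiniteType Z'.hom := by rw [← Over.w c']; infer_instance
  haveI : Mono c := Over.mono_of_mono_left c
  haveI : Mono c' := Over.mono_of_mono_left c'
  obtain ⟨l, hl⟩ := exists_lift_of_pts (K := K) c c' fun x => (h _).1 ⟨x, rfl⟩
  obtain ⟨m, hm⟩ := exists_lift_of_pts (K := K) c' c fun x => (h _).2 ⟨x, rfl⟩
  exact ⟨⟨l, m, by rw [← cancel_mono c, Category.assoc, hm, hl, Category.id_comp],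
    by rw [← cancel_mono c', Category.assoc, hl, hm, Category.id_comp]⟩, hl⟩

theorem smooth_tensor {G H : Over Sk} [Smooth G.hom] [Smooth H.hom] : Smooth (G ⊗ H).hom := by
  rw [Over.tensorObj_hom]; infer_instance

end Groth.Agent.SepPtsLib

namespace Groth.Agent.SepPtsLib

/-- A nonempty constructible subset of a Jacobson space contains a closed point. -/
theorem nonempty_closedPoints_inter {X : Type*} [TopologicalSpace X] [JacobsonSpace X] {s : Set X}
    (hs : Topology.IsConstructible s) (hne : s.Nonempty) : (s ∩ closedPoints X).Nonempty := by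
  revert hne
  induction s, hs using BooleanSubalgebra.closure_sdiff_sup_induction with
  | isSublattice =>
    exact ⟨fun s hs t ht ↦ ⟨hs.1.union ht.1, hs.2.union ht.2⟩,
      fun s hs t ht ↦ ⟨hs.1.inter ht.1, hs.2.inter_isOpen ht.2 ht.1⟩⟩
  | bot_mem => exact ⟨isOpen_empty, .empty⟩
  | top_mem => exact ⟨isOpen_univ, .univ⟩
  | sdiff U hU V hV =>
    exact fun hne => nonempty_inter_closedPoints hne ⟨U, Vᶜ, hU.1, hV.1.isClosed_compl, rfl⟩
  | sup s _ t _ hs' ht' =>
    rintro ⟨x, hx | hx⟩
    · exact (hs' ⟨x, hx⟩).mono fun y hy => ⟨Or.inl hy.1, hy.2⟩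
    · exact (ht' ⟨x, hx⟩).mono fun y hy => ⟨Or.inr hy.1, hy.2⟩

variable {k K : Type u} [Field k] [Field K] [Algebra k K]

local notation "Sk" => Spec (CommRingCat.of k)
local notation "PK" => Over.mk (Spec.map (CommRingCat.ofHom (algebraMap k K)))

/-- Closed points of a scheme locally of finite type lift to points in an algebraically closed field. -/
theorem exists_pt_of_closed [IsAlgClosed K] {X : Over Sk} [LocallyOfFiniteType X.hom] (x : X.left)
    (hx : IsClosed ({x} : Set X.left)) : ∃ p : PK ⟶ X, ∀ o, p.left o = x := by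
  haveI : JacobsonSpace X.left := LocallyOfFiniteType.jacobsonSpace X.hom
  let σ := X.left.fromSpecResidueField x
  let φ : CommRingCat.of k ⟶ X.left.residueField x := Spec.preimage (σ ≫ X.hom)
  letI : Algebra k (X.left.residueField x) := φ.hom.toAlgebra
  haveI : IsClosedImmersion σ := isClosed_singleton_iff_isClosedImmersion.mp hx
  haveI : IsFinite (σ ≫ X.hom) := isFinite_iff_locallyOfFiniteType_of_jacobsonSpace.mpr inferInstance
  haveI : Module.Finite k (X.left.residueField x) := by
    have h : IsFinite (Spec.map φ) := by rw [Spec.map_preimage]; infer_instance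
    exact (IsFinite.SpecMap_iff φ).mp h
  obtain ⟨L, _, _, τ, hτ, ⟨e⟩, hτx⟩ : ∃ (L : Type u) (_ : Field L) (_ : Algebra k L)
      (τ : Spec (CommRingCat.of L) ⟶ X.left), τ ≫ X.hom = Spec.map (CommRingCat.ofHom (algebraMap k L)) ∧
      Nonempty (L →ₐ[k] K) ∧ ∀ o, τ o = x :=
    ⟨X.left.residueField x, inferInstance, inferInstance, σ, (Spec.map_preimage (σ ≫ X.hom)).symm,
      ⟨IsAlgClosed.lift⟩, fun o => Scheme.fromSpecResidueField_apply x o⟩
  exact ⟨ptOf τ hτ e, fun o => hτx _⟩

/-- Surjectivity is tested on points in an algebraically closed field. -/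
theorem surjective_of_algClosed_pts [IsAlgClosed K] {X Y : Over Sk} [LocallyOfFiniteType X.hom]
    [QuasiCompact X.hom] [LocallyOfFiniteType Y.hom] [QuasiCompact Y.hom] (f : X ⟶ Y)
    (h : ∀ y : PK ⟶ Y, ∃ x : PK ⟶ X, x ≫ f = y) : Surjective f.left := by
  haveI : IsLocallyNoetherian Y.left := LocallyOfFiniteType.isLocallyNoetherian Y.hom
  haveI : CompactSpace Y.left := QuasiCompact.compactSpace_of_compactSpace Y.hom
  haveI : JacobsonSpace Y.left := LocallyOfFiniteType.jacobsonSpace Y.hom
  haveI : QuasiCompact (f.left ≫ Y.hom) := by rw [Over.w f]; infer_instance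
  haveI : QuasiCompact f.left := QuasiCompact.of_comp f.left Y.hom
  haveI : LocallyOfFiniteType (f.left ≫ Y.hom) := by rw [Over.w f]; infer_instance
  haveI : LocallyOfFiniteType f.left := locallyOfFiniteType_of_comp f.left Y.hom
  haveI : LocallyOfFinitePresentation f.left := inferInstance
  have hc : Topology.IsConstructible (Set.range f.left) := by
    rw [← Set.image_univ]
    exact (f.left.isLocallyConstructible_image Topology.IsConstructible.univ.isLocallyConstructible).isConstructible
  refine ⟨fun y => ?_⟩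
  by_contra hy
  obtain ⟨z, hz, hzc⟩ := nonempty_closedPoints_inter hc.compl ⟨y, fun ⟨x, hx⟩ => hy ⟨x, hx⟩⟩
  obtain ⟨p, hp⟩ := exists_pt_of_closed (K := K) z hzc
  obtain ⟨x, rfl⟩ := h p
  exact hz ⟨_, hp (IsLocalRing.closedPoint K)⟩

/-- Points in an algebraically closed field lift along surjections of finite type. -/
theorem exists_lift_pt_of_surjective [IsAlgClosed K] {X Y : Over Sk} [LocallyOfFiniteType X.hom]
    [LocallyOfFiniteType Y.hom] (f : X ⟶ Y) [Surjective f.left] (y : PK ⟶ Y) : ∃ x : PK ⟶ X, x ≫ f = y := by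
  haveI : LocallyOfFiniteType (f.left ≫ Y.hom) := by rw [Over.w f]; infer_instance
  haveI : LocallyOfFiniteType f.left := locallyOfFiniteType_of_comp f.left Y.hom
  let F : Over (Spec (CommRingCat.of K)) := Over.mk (pullback.snd f.left y.left)
  haveI : LocallyOfFiniteType F.hom := inferInstanceAs (LocallyOfFiniteType (pullback.snd f.left y.left))
  haveI : Surjective (pullback.snd f.left y.left) := inferInstance
  haveI : JacobsonSpace F.left := LocallyOfFiniteType.jacobsonSpace F.hom
  obtain ⟨z₀, -⟩ := (pullback.snd f.left y.left).surjective (IsLocalRing.closedPoint K)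
  obtain ⟨z, -, hz⟩ := nonempty_inter_closedPoints (Z := (Set.univ : Set F.left)) ⟨z₀, trivial⟩
    isOpen_univ.isLocallyClosed
  obtain ⟨p, -⟩ := exists_pt_of_closed (k := K) (K := K) z hz
  have hp : p.left ≫ pullback.snd f.left y.left = 𝟙 _ := (Over.w p).trans (by
    show Spec.map (CommRingCat.ofHom (RingHom.id K)) = _
    simp)
  refine ⟨Over.homMk (p.left ≫ pullback.fst f.left y.left) ?_, ?_⟩
  · rw [← Over.w f, Category.assoc, pullback.condition_assoc, Over.w y, reassoc_of% hp]
  · apply Over.OverMorphism.ext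
    show (p.left ≫ pullback.fst f.left y.left) ≫ f.left = y.left
    rw [Category.assoc, pullback.condition, reassoc_of% hp]

end Groth.Agent.SepPtsLib
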